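import Mathlib

/-!
# Basic elements (after Serre and Eisenbud–Evans)

`k`-generic free submodules of modules which have fibre rank `r` at all primes of height at most `k`.
-/

universe u

open TensorProduct Submodule

namespace Groth.Agent.BasicElt14

variable {A : Type u} [CommRing A] {M : Type u} [AddCommGroup M] [Module A M]

/-- The fibre of a module at a prime. -/
abbrev Fib (M : Type u) [AddCommGroup M] [Module A M] (p : PrimeSpectrum A) : Type u :=
  p.asIdeal.ResidueField ⊗[A] M

/-- evaluation in the fibre -/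
noncomputable def ev (p : PrimeSpectrum A) (m : M) : Fib M p := 1 ⊗ₜ[A] m

theorem ev_add (p : PrimeSpectrum A) (m n : M) : ev p (m + n) = ev p m + ev p n := TensorProduct.tmul_add _ _ _

theorem ev_smul (p : PrimeSpectrum A) (a : A) (m : M) :
    ev p (a • m) = algebraMap A p.asIdeal.ResidueField a • ev p m := by
  simp [ev, TensorProduct.tmul_smul, algebraMap_smul]

theorem span_ev {s : Set M} (hs : span A s = ⊤) (p : PrimeSpectrum A) :
    span p.asIdeal.ResidueField (ev p '' s) = (⊤ : Submodule _ (Fib M p)) := by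
  rw [eq_top_iff]
  rintro z -
  induction z using TensorProduct.induction_on with
  | zero => exact zero_mem _
  | add x y hx hy => exact add_mem hx hy
  | tmul c m =>
    rw [show c ⊗ₜ[A] m = c • ev p m by rw [ev, TensorProduct.smul_tmul', smul_eq_mul, mul_one]]
    refine smul_mem _ _ ?_
    have hm : m ∈ span A s := hs ▸ mem_top
    induction hm using Submodule.span_induction with
    | mem x hx => exact subset_span ⟨x, hx, rfl⟩
    | zero => rw [ev, TensorProduct.tmul_zero]; exact zero_mem _
    | add x y _ _ hx hy => rw [ev_add]; exact add_mem hx hy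
    | smul a x _ hx => rw [ev_smul]; exact smul_mem _ _ hx

/-- Nakayama at a prime. -/
theorem exists_smul_mem [Module.Finite A M] {s : Set M} {p : PrimeSpectrum A}
    (h : span p.asIdeal.ResidueField (ev p '' s) = (⊤ : Submodule _ (Fib M p))) :
    ∃ f : A, f ∉ p.asIdeal ∧ ∀ m : M, f • m ∈ span A s := by
  let Q := M ⧸ span A s
  have hQ : p ∉ Module.support A Q := by
    rw [Module.mem_support_iff_nontrivial_residueField_tensorProduct, not_nontrivial_iff_subsingleton]
    let φ : Fib M p →ₗ[p.asIdeal.ResidueField] Fib Q p := LinearMap.baseChange _ (span A s).mkQ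
    have hsur : Function.Surjective φ := LinearMap.lTensor_surjective _ (mkQ_surjective _)
    have hle : (⊤ : Submodule _ (Fib M p)) ≤ LinearMap.ker φ := by
      rw [← h, span_le]
      rintro _ ⟨x, hx, rfl⟩
      have : (span A s).mkQ x = 0 := (Submodule.Quotient.mk_eq_zero _).2 (subset_span hx)
      show φ (1 ⊗ₜ x) = 0
      rw [LinearMap.baseChange_tmul, this, TensorProduct.tmul_zero]
    refine ⟨fun a b => ?_⟩
    obtain ⟨a, rfl⟩ := hsur a
    obtain ⟨b, rfl⟩ := hsur b
    rw [LinearMap.mem_ker.1 (hle mem_top), LinearMap.mem_ker.1 (hle (mem_top (x := b)))]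
  rw [Module.support_eq_zeroLocus, PrimeSpectrum.mem_zeroLocus, Set.not_subset] at hQ
  obtain ⟨f, hf, hfp⟩ := hQ
  refine ⟨f, hfp, fun m => ?_⟩
  have := Module.mem_annihilator.1 hf ((span A s).mkQ m)
  rw [← map_smul, Submodule.mkQ_apply, Submodule.Quotient.mk_eq_zero] at this
  exact this

instance [Module.Finite A M] (p : PrimeSpectrum A) : Module.Finite p.asIdeal.ResidueField (Fib M p) :=
  inferInstance

section Open

variable [Module.Finite A M] (r : ℕ) (X : Set (PrimeSpectrum A))
  (hX : ∀ p ∈ X, Module.finrank p.asIdeal.ResidueField (Fib M p) = r)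
include hX

/-- The rank of a finite family is lower semicontinuous on `X`. -/
theorem exists_rank_ge {ι : Type} [Finite ι] (w : ι → M) {p : PrimeSpectrum A} (hp : p ∈ X) :
    ∃ f : A, f ∉ p.asIdeal ∧ ∀ q ∈ X, f ∉ q.asIdeal →
      Module.finrank p.asIdeal.ResidueField (span p.asIdeal.ResidueField (Set.range (ev p ∘ w))) ≤
        Module.finrank q.asIdeal.ResidueField (span q.asIdeal.ResidueField (Set.range (ev q ∘ w))) := by
  classical
  obtain ⟨t, htsub, hts, hti⟩ := exists_linearIndependent p.asIdeal.ResidueField (Set.range (ev p ∘ w))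
  have hM : span p.asIdeal.ResidueField (ev p '' (Set.univ : Set M)) = ⊤ :=
    span_ev (span_univ) p
  obtain ⟨B, htB, hBsub, hBs, hBi⟩ : ∃ B : Set (Fib M p), t ⊆ B ∧ B ⊆ t ∪ ev p '' Set.univ ∧
      (⊤ : Submodule p.asIdeal.ResidueField (Fib M p)) ≤ span _ B ∧ LinearIndepOn p.asIdeal.ResidueField id B := by
    obtain ⟨B, hB1, hB2, hB3, hB4⟩ := exists_linearIndepOn_id_extension (K := p.asIdeal.ResidueField)
      (show LinearIndepOn p.asIdeal.ResidueField id t from hti) (Set.subset_union_left (t := ev p '' Set.univ))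
    refine ⟨B, hB2, hB1, ?_, hB4⟩
    rw [← hM]
    exact span_le.2 fun x hx => hB3 (Or.inr hx)
  have hlift : ∀ b : B, ∃ m : M, ev p m = b.1 ∧ (b.1 ∈ t → m ∈ Set.range w) := by
    intro b
    by_cases hb : b.1 ∈ t
    · obtain ⟨i, hi⟩ := htsub hb
      exact ⟨w i, hi, fun _ => ⟨i, rfl⟩⟩
    · rcases hBsub b.2 with h | ⟨m, -, hm⟩
      · exact absurd h hb
      · exact ⟨m, hm, fun h => absurd h hb⟩
  choose m hm hmw using hlift
  haveI : Finite B := (LinearIndependent.finite (R := p.asIdeal.ResidueField) (hBi : LinearIndependent _ _))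
  haveI := Fintype.ofFinite B
  have hcard : Fintype.card B = r := by
    rw [← hX p hp, ← finrank_span_eq_card (R := p.asIdeal.ResidueField) (hBi : LinearIndependent _ _)]
    rw [show Set.range (fun x : B => (id x.1 : Fib M p)) = B from Subtype.range_coe, top_le_iff.1 hBs, finrank_top]
  obtain ⟨f, hf, hfm⟩ := exists_smul_mem (s := Set.range m) (p := p) (by
    rw [← top_le_iff, ← Set.range_comp]
    refine hBs.trans (span_mono fun b hb => ⟨⟨b, hb⟩, hm _⟩))
  refine ⟨f, hf, fun q hq hfq => ?_⟩
  have hspan : (⊤ : Submodule q.asIdeal.ResidueField (Fib M q)) ≤ span _ (Set.range (ev q ∘ m)) := by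
    rw [← span_ev (span_univ (R := A)) q, span_le]
    rintro _ ⟨x, -, rfl⟩
    have hu : algebraMap A q.asIdeal.ResidueField f ≠ 0 := by
      rwa [ne_eq, Ideal.algebraMap_residueField_eq_zero]
    have : ev q (f • x) ∈ span q.asIdeal.ResidueField (Set.range (ev q ∘ m)) := by
      have hx := hfm x
      generalize f • x = z at hx ⊢
      induction hx using Submodule.span_induction with
      | mem z hz => obtain ⟨b, rfl⟩ := hz; exact subset_span ⟨b, rfl⟩
      | zero => rw [ev, TensorProduct.tmul_zero]; exact zero_mem _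
      | add y z _ _ hy hz => rw [ev_add]; exact add_mem hy hz
      | smul a z _ hz => rw [ev_smul]; exact smul_mem _ _ hz
    rw [ev_smul] at this
    exact (smul_mem_iff _ hu).1 this
  have hli : LinearIndependent q.asIdeal.ResidueField (ev q ∘ m) :=
    linearIndependent_of_top_le_span_of_card_eq_finrank hspan (hcard.trans (hX q hq).symm)
  let e : t → B := fun x => ⟨x.1, htB x.2⟩
  have he : Function.Injective e := fun x y h => Subtype.ext (congrArg (fun b : B => b.1) h)
  haveI : Finite t := Finite.of_injective e he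
  haveI := Fintype.ofFinite t
  rw [← hts]
  calc Module.finrank p.asIdeal.ResidueField (span p.asIdeal.ResidueField t)
      = Fintype.card t := by
        have := finrank_span_eq_card (R := p.asIdeal.ResidueField) (hti : LinearIndependent _ (Subtype.val : t → _))
        rwa [Subtype.range_coe] at this
    _ = Module.finrank q.asIdeal.ResidueField (span q.asIdeal.ResidueField (Set.range (ev q ∘ m ∘ e))) :=
        (finrank_span_eq_card (hli.comp e he)).symm
    _ ≤ _ := Submodule.finrank_mono (span_mono (by
        rintro _ ⟨x, rfl⟩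
        obtain ⟨i, hi⟩ := hmw (e x) x.2
        exact ⟨i, congrArg (ev q) hi⟩))

end Open

section Main

variable [IsNoetherianRing A] [Module.Finite A M] (r k : ℕ)
  (hX : ∀ p : PrimeSpectrum A, p.asIdeal.height ≤ k → Module.finrank p.asIdeal.ResidueField (Fib M p) = r)

/-- The rank of the fibre values of `v` and `g`. -/
noncomputable def rk {d N : ℕ} (v : Fin d → M) (g : Fin N → M) (p : PrimeSpectrum A) : ℕ :=
  Module.finrank p.asIdeal.ResidueField (span p.asIdeal.ResidueField (Set.range (ev p ∘ Fin.append v g)))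

/-- the codepth of a prime in the primes of height at most `k` -/
noncomputable def dl (k : ℕ) (p : PrimeSpectrum A) : ℕ := k + 1 - p.asIdeal.height.toNat

omit [Module.Finite A M] in
theorem toNat_height_le {p : PrimeSpectrum A} (hp : p.asIdeal.height ≤ k) : p.asIdeal.height.toNat ≤ k := by
  have := ENat.toNat_le_toNat hp (ENat.coe_ne_top k)
  simpa using this

omit [Module.Finite A M] in
theorem dl_lt {p q : PrimeSpectrum A} (h : q < p) (hp : p.asIdeal.height ≤ k) :
    q.asIdeal.height ≤ k ∧ dl k p < dl k q := by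
  have h1 := Ideal.height_strict_mono_of_isPrime_of_isPrime (show q.asIdeal < p.asIdeal from h)
  have hq : q.asIdeal.height ≤ k := h1.le.trans hp
  refine ⟨hq, ?_⟩
  have h2 : q.asIdeal.height.toNat < p.asIdeal.height.toNat := by
    obtain ⟨a, ha⟩ := ENat.ne_top_iff_exists.1 (ne_top_of_le_ne_top (ENat.coe_ne_top k) hq)
    obtain ⟨b, hb⟩ := ENat.ne_top_iff_exists.1 (ne_top_of_le_ne_top (ENat.coe_ne_top k) hp)
    rw [← ha, ← hb] at h1 ⊢
    simpa using h1
  have := toNat_height_le k hp
  simp only [dl]
  omega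

/-- Avoidance of finitely many affine conditions at primes. -/
theorem exists_avoid {N : ℕ} (s : Finset (PrimeSpectrum A))
    (P : PrimeSpectrum A → (Fin N → A) → Prop)
    (h1 : ∀ p ∈ s, ∀ a : Fin N → A, ¬ P p a → ∃ j, ∀ u : A, u ∉ p.asIdeal → P p (a + Pi.single j u))
    (h2 : ∀ p ∈ s, ∀ a b : Fin N → A, (∀ j, a j - b j ∈ p.asIdeal) → P p a → P p b) :
    ∃ a : Fin N → A, ∀ p ∈ s, P p a := by
  classical
  induction s using Finset.strongInduction with
  | _ s ih =>
    rcases s.eq_empty_or_nonempty with rfl | hne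
    · exact ⟨0, by simp⟩
    obtain ⟨p, hp, hmin⟩ := s.exists_minimal hne
    obtain ⟨a, ha⟩ := ih (s.erase p) (Finset.erase_ssubset hp)
      (fun q hq => h1 q (Finset.mem_of_mem_erase hq)) (fun q hq => h2 q (Finset.mem_of_mem_erase hq))
    by_cases hpa : P p a
    · exact ⟨a, fun q hq => if h : q = p then h ▸ hpa else ha q (Finset.mem_erase.2 ⟨h, hq⟩)⟩
    obtain ⟨j, hj⟩ := h1 p hp a hpa
    have hnle : ∀ q ∈ s.erase p, ∃ u : A, u ∈ q.asIdeal ∧ u ∉ p.asIdeal := fun q hq => by
      obtain ⟨hne', hq'⟩ := Finset.mem_erase.1 hq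
      exact SetLike.not_le_iff_exists.1 fun hle => hne' (le_antisymm hle (hmin hq' hle))
    choose! u hu1 hu2 using hnle
    refine ⟨a + Pi.single j (∏ q ∈ s.erase p, u q), fun q hq => ?_⟩
    by_cases h : q = p
    · subst h
      refine hj _ fun hmem => ?_
      obtain ⟨q', hq', hmem'⟩ := Ideal.IsPrime.prod_mem_iff.1 hmem
      exact hu2 q' hq' hmem'
    · have hq'' : q ∈ s.erase p := Finset.mem_erase.2 ⟨h, hq⟩
      refine h2 q hq a _ (fun i => ?_) (ha q hq'')
      rw [Pi.add_apply, sub_add_cancel_left, neg_mem_iff]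
      rcases eq_or_ne i j with rfl | hij
      · rw [Pi.single_eq_same, ← Finset.mul_prod_erase _ u hq'']
        exact Ideal.mul_mem_right _ _ (hu1 q hq'')
      · rw [Pi.single_eq_of_ne hij]
        exact zero_mem _

omit [IsNoetherianRing A] [Module.Finite A M] in
theorem range_ev_append {d N : ℕ} (v : Fin d → M) (g : Fin N → M) (p : PrimeSpectrum A) :
    span p.asIdeal.ResidueField (Set.range (ev p ∘ Fin.append v g)) =
      span p.asIdeal.ResidueField (Set.range (ev p ∘ v)) ⊔ span p.asIdeal.ResidueField (Set.range (ev p ∘ g)) := by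
  rw [← Submodule.span_union]
  congr 1
  ext x
  simp only [Set.mem_range, Set.mem_union, Function.comp_apply]
  constructor
  · rintro ⟨i, rfl⟩
    refine Fin.addCases (fun l => Or.inl ⟨l, ?_⟩) (fun l => Or.inr ⟨l, ?_⟩) i <;> simp
  · rintro (⟨i, rfl⟩ | ⟨i, rfl⟩)
    · exact ⟨Fin.castAdd N i, by simp⟩
    · exact ⟨Fin.natAdd d i, by simp⟩

/-- the shortened family -/
def shorten {N : ℕ} (g : Fin (N + 1) → M) (a : Fin N → A) : Fin N → M :=
  fun j => g j.castSucc + a j • g (Fin.last N)

omit [IsNoetherianRing A] in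
theorem span_shorten_sup {N : ℕ} (g : Fin (N + 1) → M) (a : Fin N → A) (p : PrimeSpectrum A) :
    span p.asIdeal.ResidueField (Set.range (ev p ∘ g)) =
      span p.asIdeal.ResidueField (Set.range (ev p ∘ shorten g a)) ⊔
        span p.asIdeal.ResidueField {ev p (g (Fin.last N))} := by
  refine le_antisymm (span_le.2 ?_) (sup_le (span_le.2 ?_) (span_le.2 ?_))
  · rintro _ ⟨i, rfl⟩
    refine Fin.lastCases ?_ (fun j => ?_) i
    · exact Submodule.mem_sup_right (subset_span rfl)
    · have h : ev p (g j.castSucc) = ev p (shorten g a j) -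
          algebraMap A p.asIdeal.ResidueField (a j) • ev p (g (Fin.last N)) := by
        rw [shorten, ev_add, ev_smul, add_sub_cancel_right]
      show ev p (g j.castSucc) ∈ _
      rw [h]
      exact sub_mem (Submodule.mem_sup_left (subset_span ⟨j, rfl⟩))
        (smul_mem _ _ (Submodule.mem_sup_right (subset_span rfl)))
  · rintro _ ⟨j, rfl⟩
    show ev p (shorten g a j) ∈ _
    rw [shorten, ev_add, ev_smul]
    exact add_mem (subset_span ⟨_, rfl⟩) (smul_mem _ _ (subset_span ⟨_, rfl⟩))
  · exact Set.singleton_subset_iff.2 (subset_span ⟨_, rfl⟩)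

include hX

/-- one step of shortening -/
theorem exists_shorten {d N : ℕ} (v : Fin d → M) (g : Fin (N + 1) → M)
    (hv : ∀ p : PrimeSpectrum A, p.asIdeal.height ≤ k → LinearIndependent p.asIdeal.ResidueField (ev p ∘ v))
    (hg : ∀ p : PrimeSpectrum A, p.asIdeal.height ≤ k → d + min (N + 1) (dl k p) ≤ rk v g p) :
    ∃ a : Fin N → A, ∀ p : PrimeSpectrum A, p.asIdeal.height ≤ k → d + min N (dl k p) ≤ rk v (shorten g a) p := by
  classical
  let C : ℕ → Set (PrimeSpectrum A) := fun t => {p | p.asIdeal.height ≤ k ∧ rk v g p ≤ d + t}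
  have hC : ∀ t, ∀ p : PrimeSpectrum A, p.asIdeal.height ≤ k →
      PrimeSpectrum.vanishingIdeal (C t) ≤ p.asIdeal → rk v g p ≤ d + t := by
    intro t p hp hI
    by_contra hlt
    obtain ⟨f, hf, hfq⟩ := exists_rank_ge (M := M) r {p | p.asIdeal.height ≤ k} hX (Fin.append v g) (p := p) hp
    refine hf (hI ?_)
    rw [PrimeSpectrum.mem_vanishingIdeal]
    intro q hq
    by_contra hfq'
    exact hlt ((hfq q hq.1 hfq').trans hq.2)
  let T : Set (PrimeSpectrum A) := {p | p.asIdeal.height ≤ k ∧ rk v g p = d + dl k p ∧ dl k p ≤ N}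
  have hT : T.Finite := by
    have hfin : (⋃ t ∈ Set.Iic N, PrimeSpectrum.asIdeal ⁻¹' (PrimeSpectrum.vanishingIdeal (C t)).minimalPrimes).Finite :=
      (Set.finite_Iic N).biUnion fun t _ => (Ideal.finite_minimalPrimes_of_isNoetherianRing A _).preimage
        (fun _ _ _ _ h => PrimeSpectrum.ext h)
    refine hfin.subset ?_
    rintro p ⟨hp, he, hN'⟩
    have hpI : PrimeSpectrum.vanishingIdeal (C (dl k p)) ≤ p.asIdeal := fun f hf =>
      (PrimeSpectrum.mem_vanishingIdeal _ _).1 hf p ⟨hp, he.le⟩
    refine Set.mem_biUnion hN' ⟨⟨p.2, hpI⟩, fun Q ⟨hQ, hIQ⟩ hQp => ?_⟩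
    by_contra hne
    have hlt : (⟨Q, hQ⟩ : PrimeSpectrum A) < p := lt_of_le_not_ge hQp hne
    obtain ⟨hq, hdl⟩ := dl_lt k hlt hp
    have h1 := hC _ _ hq hIQ
    have h2 := hg _ hq
    omega
  obtain ⟨a, ha⟩ : ∃ a : Fin N → A, ∀ p ∈ hT.toFinset, rk v g p ≤ rk v (shorten g a) p := by
    refine exists_avoid hT.toFinset (fun p a => rk v g p ≤ rk v (shorten g a) p) (fun p hp a hfail => ?_)
      (fun p _ a b hab h => ?_)
    · obtain ⟨hpk, he, hN'⟩ := hT.mem_toFinset.1 hp
      replace hfail : rk v (shorten g a) p < rk v g p := not_le.1 hfail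
      let K := p.asIdeal.ResidueField
      let w := ev p ∘ Fin.append v (shorten g a)
      have hdep : ¬ LinearIndependent K w := fun hli => by
        have := finrank_span_eq_card hli
        rw [Fintype.card_fin] at this
        have : rk v (shorten g a) p = d + N := this
        omega
      obtain ⟨c, hc, i, hi⟩ := Fintype.not_linearIndependent_iff.1 hdep
      rw [Fin.sum_univ_add] at hc
      simp only [w, Function.comp_apply, Fin.append_left, Fin.append_right] at hc
      obtain ⟨j, hj⟩ : ∃ j : Fin N, c (Fin.natAdd d j) ≠ 0 := by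
        by_contra hall
        push Not at hall
        simp only [hall, zero_smul, Finset.sum_const_zero, add_zero] at hc
        have := Fintype.linearIndependent_iff.1 (hv p hpk) (fun l => c (Fin.castAdd N l)) hc
        exact hi (Fin.addCases (motive := fun i => c i = 0) this hall i)
      refine ⟨j, fun u hu => ?_⟩
      let g' := shorten g (a + Pi.single j u)
      let S : Submodule K (Fib M p) := span K (Set.range (ev p ∘ v)) ⊔ span K (Set.range (ev p ∘ g'))
      have hother : ∀ l, l ≠ j → ev p (shorten g a l) ∈ S := fun l hl => by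
        refine Submodule.mem_sup_right (subset_span ⟨l, ?_⟩)
        simp [g', shorten, Pi.single_eq_of_ne hl]
      have hjS : ev p (shorten g a j) ∈ S := by
        rw [← Finset.add_sum_erase _ _ (Finset.mem_univ j), add_left_comm, add_eq_zero_iff_eq_neg] at hc
        refine (smul_mem_iff _ hj).1 ?_
        rw [hc]
        exact neg_mem (add_mem (Submodule.sum_mem _ fun l _ => smul_mem _ _ (Submodule.mem_sup_left (subset_span ⟨l, rfl⟩)))
          (Submodule.sum_mem _ fun l hl => smul_mem _ _ (hother l (Finset.mem_erase.1 hl).1)))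
      have hlast : ev p (g (Fin.last N)) ∈ S := by
        have hne : algebraMap A K u ≠ 0 := by rwa [ne_eq, Ideal.algebraMap_residueField_eq_zero]
        refine (smul_mem_iff _ hne).1 ?_
        have h : algebraMap A K u • ev p (g (Fin.last N)) = ev p (g' j) - ev p (shorten g a j) := by
          simp only [g', shorten, Pi.add_apply, Pi.single_eq_same, add_smul, ev_add, ev_smul, K]
          abel
        rw [h]
        exact sub_mem (Submodule.mem_sup_right (subset_span ⟨j, rfl⟩)) hjS
      refine Submodule.finrank_mono ?_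
      rw [range_ev_append, range_ev_append, span_shorten_sup g (a + Pi.single j u)]
      refine sup_le le_sup_left (sup_le le_sup_right (span_le.2 (Set.singleton_subset_iff.2 hlast)))
    · have e : ev p ∘ shorten g a = ev p ∘ shorten g b := funext fun j => by
        have h0 : algebraMap A p.asIdeal.ResidueField (a j) = algebraMap A p.asIdeal.ResidueField (b j) := by
          rw [← sub_eq_zero, ← map_sub, Ideal.algebraMap_residueField_eq_zero]
          exact hab j
        simp [shorten, ev_add, ev_smul, h0]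
      have e2 : rk v (shorten g b) p = rk v (shorten g a) p := by rw [rk, rk, range_ev_append, range_ev_append, e]
      exact h.trans e2.ge
  refine ⟨a, fun p hp => ?_⟩
  have h1 := hg p hp
  have h2 : rk v g p ≤ rk v (shorten g a) p + 1 := by
    have e := finrank_add_le_finrank_add_finrank
      (span p.asIdeal.ResidueField (Set.range (ev p ∘ Fin.append v (shorten g a))))
      (span p.asIdeal.ResidueField {ev p (g (Fin.last N))})
    rw [range_ev_append, sup_assoc, ← span_shorten_sup, ← range_ev_append, ← range_ev_append] at e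
    refine e.trans (Nat.add_le_add le_rfl ?_)
    exact (finrank_span_le_card _).trans (by simp)
  by_cases hTp : p ∈ T
  · have := ha p (hT.mem_toFinset.2 hTp)
    omega
  · have : ¬ (rk v g p = d + dl k p ∧ dl k p ≤ N) := fun h => hTp ⟨hp, h.1, h.2⟩
    omega

/-- a basic element relative to an independent family -/
theorem exists_next {d : ℕ} (hdr : d + k + 1 ≤ r) (v : Fin d → M)
    (hv : ∀ p : PrimeSpectrum A, p.asIdeal.height ≤ k → LinearIndependent p.asIdeal.ResidueField (ev p ∘ v)) :
    ∃ v' : Fin (d + 1) → M,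
      ∀ p : PrimeSpectrum A, p.asIdeal.height ≤ k → LinearIndependent p.asIdeal.ResidueField (ev p ∘ v') := by
  classical
  suffices H : ∀ N : ℕ, ∀ g : Fin (N + 1) → M,
      (∀ p : PrimeSpectrum A, p.asIdeal.height ≤ k → d + min (N + 1) (dl k p) ≤ rk v g p) →
      ∃ g : Fin 1 → M, ∀ p : PrimeSpectrum A, p.asIdeal.height ≤ k → d + 1 ≤ rk v g p by
    obtain ⟨N, g₀, hg₀⟩ := Module.Finite.exists_fin (R := A) (M := M)
    obtain ⟨g, hg⟩ := H N (Fin.append g₀ ![0]) fun p hp => by
      have htop : span p.asIdeal.ResidueField (Set.range (ev p ∘ Fin.append v (Fin.append g₀ ![(0 : M)]))) = ⊤ := by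
        rw [range_ev_append, range_ev_append, ← top_le_iff, ← span_ev hg₀ p, ← Set.range_comp]
        exact le_sup_left.trans le_sup_right
      rw [rk, htop, finrank_top, hX p hp]
      have : dl k p ≤ k + 1 := Nat.sub_le _ _
      omega
    refine ⟨Fin.append v g, fun p hp => ?_⟩
    rw [linearIndependent_iff_card_le_finrank_span, Fintype.card_fin]
    exact hg p hp
  intro N
  induction N with
  | zero =>
    intro g hg
    refine ⟨g, fun p hp => ?_⟩
    have := hg p hp
    have := toNat_height_le k hp
    have : 1 ≤ dl k p := by simp only [dl]; omega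
    omega
  | succ N ih =>
    intro g hg
    obtain ⟨a, ha⟩ := exists_shorten r k hX v g hv hg
    exact ih _ ha

theorem exists_independent (d : ℕ) (hdr : d + k ≤ r) :
    ∃ v : Fin d → M,
      ∀ p : PrimeSpectrum A, p.asIdeal.height ≤ k → LinearIndependent p.asIdeal.ResidueField (ev p ∘ v) := by
  induction d with
  | zero => exact ⟨Fin.elim0, fun p _ => linearIndependent_empty_type⟩
  | succ d ih =>
    obtain ⟨v, hv⟩ := ih (by omega)
    exact exists_next r k hX (by omega) v hv

end Main

end Groth.Agent.BasicElt14
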