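import Groth.Agent.Lib.BasicElt14.Basic

/-!
# From independence in the fibres to local freeness of the quotient
-/

universe u

open TensorProduct Submodule

namespace Groth.Agent.BasicElt14

variable {A : Type u} [CommRing A] {M : Type u} [AddCommGroup M] [Module A M]

variable {p : PrimeSpectrum A}

local notation "L" => Localization.AtPrime p.asIdeal

theorem finrank_fib {r : ℕ} (e : LocalizedModule p.asIdeal.primeCompl M ≃ₗ[L] (Fin r → L)) :
    Module.finrank p.asIdeal.ResidueField (Fib M p) = r := by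
  let e1 : L ⊗[A] M ≃ₗ[L] (Fin r → L) := (LocalizedModule.equivTensorProduct p.asIdeal.primeCompl M).symm ≪≫ₗ e
  let e2 : Fib M p ≃ₗ[p.asIdeal.ResidueField] p.asIdeal.ResidueField ⊗[L] (Fin r → L) :=
    (AlgebraTensorModule.cancelBaseChange A L p.asIdeal.ResidueField p.asIdeal.ResidueField M).symm ≪≫ₗ
      AlgebraTensorModule.congr (LinearEquiv.refl _ _) e1
  rw [e2.finrank_eq, Module.finrank_baseChange, Module.finrank_fin_fun]

/-- the map of localizations given by a family -/
noncomputable def locMap {n : ℕ} (w : Fin n → M) : (Fin n → L) →ₗ[L] LocalizedModule p.asIdeal.primeCompl M :=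
  Fintype.linearCombination L (fun i => LocalizedModule.mk (w i) 1)

theorem locMap_algebraMap {n : ℕ} (w : Fin n → M) (c : Fin n → A) :
    locMap (p := p) w (fun i => algebraMap A L (c i)) = LocalizedModule.mk (∑ i, c i • w i) 1 := by
  rw [locMap, Fintype.linearCombination_apply]
  show _ = LocalizedModule.mkLinearMap p.asIdeal.primeCompl M (∑ i, c i • w i)
  rw [map_sum]
  refine Finset.sum_congr rfl fun i _ => ?_
  rw [map_smul, algebraMap_smul]
  rfl

theorem surjective_locMap {n : ℕ} (w : Fin n → M)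
    (h : ∀ m : M, ∃ f : A, f ∉ p.asIdeal ∧ f • m ∈ span A (Set.range w)) :
    Function.Surjective (locMap (p := p) w) := by
  intro z
  induction z using LocalizedModule.induction_on with
  | _ m s =>
    obtain ⟨f, hf, hm⟩ := h m
    obtain ⟨c, hc⟩ := (mem_span_range_iff_exists_fun A).1 hm
    refine ⟨Localization.mk 1 (⟨f, hf⟩ * s) • fun i => algebraMap A L (c i), ?_⟩
    rw [map_smul, locMap_algebraMap, hc, LocalizedModule.mk_smul_mk, one_smul, mul_one]
    rw [LocalizedModule.mk_eq]
    refine ⟨1, ?_⟩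
    simp only [Submonoid.smul_def, one_smul, Submonoid.coe_one, Submonoid.coe_mul, smul_smul]
    rw [mul_comm]

theorem bijective_locMap {n r : ℕ} (hn : n = r) (e : LocalizedModule p.asIdeal.primeCompl M ≃ₗ[L] (Fin r → L))
    (w : Fin n → M) (h : ∀ m : M, ∃ f : A, f ∉ p.asIdeal ∧ f • m ∈ span A (Set.range w)) :
    Function.Bijective (locMap (p := p) w) := by
  subst hn
  refine ⟨?_, surjective_locMap w h⟩
  have : Function.Injective (e.toLinearMap ∘ₗ locMap (p := p) w) :=
    OrzechProperty.injective_of_surjective_endomorphism _ (e.surjective.comp (surjective_locMap w h))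
  exact Function.Injective.of_comp (f := e) this

/-- a relation among a basis at `p` vanishes near `p` -/
theorem exists_smul_eq_zero {n : ℕ} {w : Fin n → M} (h : Function.Injective (locMap (p := p) w)) {c : Fin n → A}
    (hc : ∑ i, c i • w i = 0) (i : Fin n) : ∃ f : A, f ∉ p.asIdeal ∧ f * c i = 0 := by
  have h0 : (fun i => algebraMap A L (c i)) = 0 := h (by rw [locMap_algebraMap, hc, map_zero, LocalizedModule.zero_mk])
  obtain ⟨f, hf⟩ := (IsLocalization.map_eq_zero_iff p.asIdeal.primeCompl L (c i)).1 (congrFun h0 i)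
  exact ⟨f, f.2, hf⟩

variable [Module.Finite A M]

theorem nonempty_quotient_equiv {d k r : ℕ} (hr : d + k = r)
    (e : LocalizedModule p.asIdeal.primeCompl M ≃ₗ[L] (Fin r → L)) (v : Fin d → M)
    (hv : LinearIndependent p.asIdeal.ResidueField (ev p ∘ v)) :
    Nonempty (LocalizedModule p.asIdeal.primeCompl (M ⧸ span A (Set.range v)) ≃ₗ[L] (Fin k → L)) ∧
      ∀ c : Fin d → A, ∑ i, c i • v i = 0 → ∀ i, ∃ f : A, f ∉ p.asIdeal ∧ f * c i = 0 := by
  classical
  let W := span p.asIdeal.ResidueField (Set.range (ev p ∘ v))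
  have hW : Module.finrank p.asIdeal.ResidueField W = d := by
    rw [finrank_span_eq_card hv, Fintype.card_fin]
  have hQ : Module.finrank p.asIdeal.ResidueField (Fib M p ⧸ W) = k := by
    have := W.finrank_quotient_add_finrank
    rw [finrank_fib e, hW] at this
    omega
  obtain ⟨t, htsub, hts, hti⟩ := exists_linearIndependent p.asIdeal.ResidueField (W.mkQ '' (ev p '' (Set.univ : Set M)))
  have htop : span p.asIdeal.ResidueField t = ⊤ := by
    rw [hts, span_image, span_ev span_univ, Submodule.map_top, Submodule.range_mkQ]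
  let b : Module.Basis t p.asIdeal.ResidueField (Fib M p ⧸ W) := Module.Basis.mk hti (by rw [Subtype.range_coe, htop])
  haveI : Fintype t := FiniteDimensional.fintypeBasisIndex b
  have hcard : Fintype.card t = k := by rw [← hQ, Module.finrank_eq_card_basis b]
  let σ : Fin k ≃ t := (finCongr hcard.symm).trans (Fintype.equivFin t).symm
  have hl : ∀ j : Fin k, ∃ m : M, W.mkQ (ev p m) = (σ j).1 := fun j => by
    obtain ⟨_, ⟨m, -, rfl⟩, hm⟩ := htsub (σ j).2
    exact ⟨m, hm⟩
  choose w hw using hl
  let u := Fin.append v w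
  have hu : span p.asIdeal.ResidueField (Set.range (ev p ∘ u)) = ⊤ := by
    rw [range_ev_append, eq_top_iff]
    intro z _
    have hz : W.mkQ z ∈ span p.asIdeal.ResidueField t := htop ▸ mem_top
    have hsub : t ⊆ W.mkQ '' Set.range (ev p ∘ w) := fun x hx =>
      ⟨ev p (w (σ.symm ⟨x, hx⟩)), ⟨_, rfl⟩, by rw [hw, σ.apply_symm_apply]⟩
    have := span_mono hsub hz
    rw [span_image, ← mem_comap, comap_map_eq, Submodule.ker_mkQ, sup_comm] at this
    exact this
  obtain ⟨f, hf, hfm⟩ := exists_smul_mem (s := Set.range u) (p := p) (by rw [← Set.range_comp]; exact hu)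
  have hspan : ∀ m : M, ∃ f : A, f ∉ p.asIdeal ∧ f • m ∈ span A (Set.range u) := fun m => ⟨f, hf, hfm m⟩
  have hinj := (bijective_locMap hr e u hspan).1
  refine ⟨⟨(LinearEquiv.ofBijective (locMap (p := p) (Submodule.mkQ (span A (Set.range v)) ∘ w)) ⟨?_, ?_⟩).symm⟩,
    fun c hc i => ?_⟩
  · rw [injective_iff_map_eq_zero]
    intro x hx
    obtain ⟨s, hs⟩ := IsLocalization.exist_integer_multiples_of_finite p.asIdeal.primeCompl x
    choose c hc using hs
    have hxc : (algebraMap A L s) • x = fun j => algebraMap A L (c j) := funext fun j => by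
      rw [Pi.smul_apply, hc j, smul_eq_mul, Algebra.smul_def]
    have h1 := congrArg (locMap (p := p) (Submodule.mkQ (span A (Set.range v)) ∘ w)) hxc
    rw [map_smul, hx, smul_zero, locMap_algebraMap, eq_comm, ← LocalizedModule.zero_mk (s := (1 : p.asIdeal.primeCompl)),
      LocalizedModule.mk_eq] at h1
    obtain ⟨g, hg⟩ := h1
    simp only [one_smul, smul_zero, Function.comp_apply, Submonoid.smul_def, ← map_smul, ← map_sum] at hg
    rw [Submodule.mkQ_apply, Submodule.Quotient.mk_eq_zero, mem_span_range_iff_exists_fun] at hg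
    obtain ⟨a, ha⟩ := hg
    funext j
    obtain ⟨f', hf', hfc⟩ := exists_smul_eq_zero hinj (c := Fin.append (fun l => - a l) (fun l => (g : A) * c l)) (by
      rw [Fin.sum_univ_add]
      simp only [u, Fin.append_left, Fin.append_right, neg_smul, Finset.sum_neg_distrib, mul_smul, ← Finset.smul_sum]
      rw [neg_add_eq_zero]
      exact ha) (Fin.natAdd d j)
    rw [Fin.append_right, ← mul_assoc] at hfc
    have hc0 : algebraMap A L (c j) = 0 := (IsLocalization.map_eq_zero_iff p.asIdeal.primeCompl L _).2
      ⟨⟨f' * g, p.asIdeal.primeCompl.mul_mem hf' g.2⟩, hfc⟩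
    have := congrFun hxc j
    rw [Pi.smul_apply, hc0, smul_eq_mul] at this
    exact (IsLocalization.map_units L s).mul_right_eq_zero.1 this
  · refine surjective_locMap _ fun z => ?_
    obtain ⟨m, rfl⟩ := Submodule.mkQ_surjective _ z
    refine ⟨f, hf, ?_⟩
    rw [Set.range_comp, span_image, ← map_smul]
    have h := hfm m
    obtain ⟨c, hc⟩ := (mem_span_range_iff_exists_fun A).1 h
    rw [Fin.sum_univ_add] at hc
    simp only [u, Fin.append_left, Fin.append_right] at hc
    refine ⟨∑ j, c (Fin.natAdd d j) • w j, sum_mem fun j _ => smul_mem _ _ (subset_span ⟨j, rfl⟩), ?_⟩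
    rw [Submodule.mkQ_apply, Submodule.mkQ_apply, Submodule.Quotient.eq, ← hc, ← neg_sub, neg_mem_iff,
      add_sub_cancel_right]
    exact sum_mem fun j _ => smul_mem _ _ (subset_span ⟨j, rfl⟩)
  · obtain ⟨f', hf', hfc⟩ := exists_smul_eq_zero hinj (c := Fin.append c (0 : Fin k → A)) (by
      rw [Fin.sum_univ_add]
      simp only [u, Fin.append_left, Fin.append_right, Pi.zero_apply, zero_smul, Finset.sum_const_zero, add_zero]
      exact hc) (Fin.castAdd k i)
    rw [Fin.append_left] at hfc
    exact ⟨f', hf', hfc⟩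

end Groth.Agent.BasicElt14
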